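import Cfsg.Agent.Lib.CoreKill.Theorem
import Cfsg.Agent.Lib.CoreKill.FinishCtx
import Cfsg.Agent.Lib.CoreKill.CentralConn
import Cfsg.Agent.Lib.CoprimeGen
import Cfsg.Agent.Lib.Fusion.RankTwoSimple
import Cfsg.Agent.S1221
import Cfsg.Agent.S0223

/-!
An odd subgroup generated by the cores of the involution centralisers of a Sylow 2-subgroup of a simple group.

Blueprint: `blueprint/bender/S1290.md`.
-/

set_option autoImplicit false
set_option linter.unusedSectionVars false
set_option linter.style.haveILetI false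

universe u

namespace CfsgLib.CoreGen

open Cfsg Subgroup CfsgLib.Signalizer
open CfsgLib.Bender.Assembly (orderOf_two isInv_of_orderOf)
open CfsgLib.Bender.TwoClosed (IsInv)

variable {G : Type u} [Group G] [Finite G]

/-- The subgroup generated by the cores at the involutions of `S`. -/
def gen (S : Sylow 2 G) : Subgroup G :=
  ⨆ x : {x : G // x ∈ S ∧ orderOf x = 2}, centralizerPPrimeCore 2 (x : G)

/-- The hypotheses of the theorem. -/
structure Hyp (S : Sylow 2 G) : Prop where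
  simple : IsSimpleGroup G
  noncomm : ¬ IsMulCommutative G
  odd : Odd (Nat.card ↥(gen S))
  fix : ∀ x : G, x ∈ S → orderOf x = 2 → gen S ⊓ centralizer {x} = centralizerPPrimeCore 2 x

variable {S : Sylow 2 G}

theorem le_gen {x : G} (hx : x ∈ S) (hx2 : orderOf x = 2) : centralizerPPrimeCore 2 x ≤ gen S :=
  le_iSup (fun y : {y : G // y ∈ S ∧ orderOf y = 2} => centralizerPPrimeCore 2 (y : G)) ⟨x, hx, hx2⟩

theorem sylow_le_normalizer (S : Sylow 2 G) : (S : Subgroup G) ≤ normalizer (gen S : Set G) := fun s hs => by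
  refine Comp.mem_normalizer_of_maps fun y hy => ?_
  refine (show (gen S).map (MulAut.conj s).toMonoidHom ≤ gen S from ?_) ⟨y, hy, rfl⟩
  rw [gen, Subgroup.map_iSup]
  refine iSup_le fun x => ?_
  rw [← CoreKill.core_equi]
  exact le_gen (mul_mem (mul_mem hs x.2.1) (inv_mem hs)) (((MulAut.conj s).orderOf_eq (x : G)).trans x.2.2)

theorem exists_conj_into (S : Sylow 2 G) {A : Subgroup G} (hA : IsPGroup 2 A) :
    ∃ g : G, ∀ a ∈ A, g * a * g⁻¹ ∈ S := by
  haveI := Fact.mk Nat.prime_two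
  obtain ⟨R, hR⟩ := hA.exists_le_sylow
  obtain ⟨g, hg⟩ := MulAction.exists_smul_eq G R S
  refine ⟨g, fun a ha => ?_⟩
  rw [← hg]
  exact ⟨a, hR ha, rfl⟩

theorem exists_conj_invol (S : Sylow 2 G) {t : G} (ht : orderOf t = 2) :
    ∃ g : G, g * t * g⁻¹ ∈ S := by
  haveI := Fact.mk Nat.prime_two
  obtain ⟨g, hg⟩ := exists_conj_into S
    (IsPGroup.of_card (n := 1) (by rw [Nat.card_zpowers, ht, pow_one]) : IsPGroup 2 (zpowers t))
  exact ⟨g, hg t (mem_zpowers t)⟩

/-- It is enough to treat the involutions of `S`. -/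
theorem eq_bot_of_sylow (h : ∀ x : G, x ∈ S → orderOf x = 2 → centralizerPPrimeCore 2 x = ⊥) {t : G}
    (ht : orderOf t = 2) : centralizerPPrimeCore 2 t = ⊥ := by
  obtain ⟨g, hg⟩ := exists_conj_invol S ht
  have h1 := h _ hg (((MulAut.conj g).orderOf_eq t).trans ht)
  rwa [CoreKill.core_equi, Subgroup.map_eq_bot_iff_of_injective _ (MulAut.conj g).injective] at h1

theorem eq_bot_of_gen (h : gen S = ⊥) {t : G} (ht : orderOf t = 2) : centralizerPPrimeCore 2 t = ⊥ :=
  eq_bot_of_sylow (fun _ hx hx2 => le_bot_iff.mp (h ▸ le_gen hx hx2)) ht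

/-- An elementary abelian subgroup of order eight over an involution of `S` centralising a normal four group. -/
theorem exists_eight_of_four {U E : Subgroup G} (hU : IsElementaryAbelian 2 U) (hU4 : Nat.card U = 4)
    (hE : IsElementaryAbelian 2 E) (hE8 : 8 ≤ Nat.card E) {T : Subgroup G} (hT : ∀ a ∈ T, ∀ u ∈ U, a * u = u * a)
    (hTE : Nat.card E ≤ 2 * Nat.card ↥(T ⊓ E)) {x : G} (hxT : x ∈ T) (hx : x * x = 1) :
    ∃ B : Subgroup G, IsElementaryAbelian 2 B ∧ 8 ≤ Nat.card B ∧ x ∈ B := by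
  haveI := Fact.mk Nat.prime_two
  have big : ∀ {a : G}, a ∈ T → a * a = 1 → a ∉ U →
      IsElementaryAbelian 2 (U ⊔ zpowers a) ∧ 8 ≤ Nat.card ↥(U ⊔ zpowers a) := by
    intro a haT ha haU
    have hB := TwoLocalSignalizer.ea_sup hU (CoreKill.ea_zpowers ha) fun u hu y hy => by
      obtain ⟨i, rfl⟩ := mem_zpowers_iff.mp hy
      exact (Commute.zpow_right (hT a haT u hu).symm i).eq
    refine ⟨hB, TwoLocalSignalizer.eight_le_of_four_lt (isPGroup_ea hB)
      (lt_of_le_of_ne (hU4 ▸ Subgroup.card_le_of_le le_sup_left) fun e => haU ?_)⟩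
    rw [Subgroup.eq_of_le_of_card_ge (le_sup_left : U ≤ U ⊔ zpowers a) (by omega)]
    exact (le_sup_right : zpowers a ≤ U ⊔ zpowers a) (mem_zpowers a)
  by_cases hxU : x ∈ U
  · by_cases hsub : T ⊓ E ≤ U
    · have h1 : T ⊓ E = U := Subgroup.eq_of_le_of_card_ge hsub (by omega)
      exact ⟨E, hE, hE8, (h1.ge.trans inf_le_right) hxU⟩
    · obtain ⟨e, he, heU⟩ := SetLike.not_le_iff_exists.mp hsub
      obtain ⟨hB, h8⟩ := big he.1 (by rw [← pow_two]; exact hE.2 e he.2) heU
      exact ⟨_, hB, h8, (le_sup_left : U ≤ U ⊔ zpowers e) hxU⟩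
  · obtain ⟨hB, h8⟩ := big hxT hx hxU
    exact ⟨_, hB, h8, (le_sup_right : zpowers x ≤ U ⊔ zpowers x) (mem_zpowers x)⟩

/-- In a simple group of 2-rank at least three every involution lies in an elementary abelian subgroup of order
eight. -/
theorem exists_eight_around [IsSimpleGroup G] (hG : ¬ IsMulCommutative G) (h3 : ¬ PRankLE 2 2 G) {t : G}
    (ht : orderOf t = 2) : ∃ B : Subgroup G, IsElementaryAbelian 2 B ∧ 8 ≤ Nat.card B ∧ t ∈ B := by
  classical
  haveI := Fact.mk Nat.prime_two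
  obtain ⟨S⟩ : Nonempty (Sylow 2 G) := inferInstance
  obtain ⟨E, hES, hE, hE8⟩ := CoreKill.exists_eight_in S h3
  -- a normal four group of `S`
  have hcardE : Nat.card (E.subgroupOf (S : Subgroup G)) = Nat.card E :=
    Nat.card_congr (Subgroup.subgroupOfEquivOfLe hES).toEquiv
  have hdvd : 2 ^ 3 ∣ Nat.card E := by
    obtain ⟨k, hk⟩ := IsPGroup.iff_card.mp (isPGroup_ea hE)
    rw [hk] at hE8 ⊢
    refine pow_dvd_pow 2 ?_
    by_contra hlt
    have := Nat.pow_le_pow_right (show 0 < 2 by norm_num) (show k ≤ 2 by omega)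
    omega
  obtain ⟨E₈, hE₈⟩ := Sylow.exists_subgroup_card_pow_prime (G := E.subgroupOf (S : Subgroup G)) 2 (hcardE ▸ hdvd)
  obtain ⟨U', hUn, hU4', hU2⟩ := RankThreeCent.exists_normal_four S.isPGroup'
    (E₈.map (E.subgroupOf (S : Subgroup G)).subtype)
    (by rw [Subgroup.card_map_of_injective (Subgroup.subtype_injective _), hE₈]; norm_num)
    (by rintro _ ⟨e, -, rfl⟩; exact Subtype.ext (by simpa using hE.2 _ e.2))
  haveI := hUn
  set U := U'.map (S : Subgroup G).subtype with hUdef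
  have hU4 : Nat.card U = 4 := by
    rw [hUdef, Subgroup.card_map_of_injective (Subgroup.subtype_injective _), hU4']
  have hU : IsElementaryAbelian 2 U := by
    have hsq : ∀ x ∈ U, x ^ 2 = 1 := by
      rintro _ ⟨a, ha, rfl⟩
      rw [← map_pow, hU2 a ha, map_one]
    refine SolvSF.ea_of_comm (fun a ha b hb => ?_) hsq
    have ea := fun {x : G} (hx : x ∈ U) => inv_eq_of_mul_eq_one_right (show x * x = 1 by rw [← pow_two]; exact hsq x hx)
    calc a * b = (a * b)⁻¹ := (ea (mul_mem ha hb)).symm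
      _ = b * a := by rw [mul_inv_rev, ea ha, ea hb]
  have hne : U' ≠ ⊥ := fun e => by rw [e, Subgroup.card_bot] at hU4'; omega
  haveI := S.isPGroup'.isNilpotent
  obtain ⟨c', hcm, hc1⟩ := SetLike.exists_of_lt (bot_lt_iff_ne_bot.mpr (CfsgLib.inf_center_ne_bot_of_nilpotent hne))
  obtain ⟨hcU, hcc⟩ := Subgroup.mem_inf.mp hcm
  set c : G := (c' : G) with hcdef
  have hcne : c ≠ 1 := fun e => hc1 (Subgroup.mem_bot.mpr (Subtype.ext e))
  have hcS : ∀ s ∈ (S : Subgroup G), s * c = c * s := fun s hs =>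
    congrArg Subtype.val (Subgroup.mem_center_iff.mp hcc ⟨s, hs⟩)
  have hcU' : c ∈ U := ⟨c', hcU, rfl⟩
  have hUn' : ∀ s ∈ (S : Subgroup G), ∀ a ∈ U, s * a * s⁻¹ ∈ U := by
    rintro s hs _ ⟨a, ha, rfl⟩
    exact ⟨⟨s, hs⟩ * a * ⟨s, hs⟩⁻¹, hUn.conj_mem a ha _, rfl⟩
  obtain ⟨u, hu, hu1, huc⟩ : ∃ u ∈ U, u ≠ 1 ∧ u ≠ c := by
    by_contra hno
    push Not at hno
    have hsub : U ≤ zpowers c := fun x hx => by
      by_cases h1 : x = 1
      · exact h1 ▸ one_mem _
      · exact hno x hx h1 ▸ mem_zpowers c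
    have := Subgroup.card_le_of_le hsub
    rw [Nat.card_zpowers, orderOf_eq_prime (hU.2 c hcU') hcne] at this
    omega
  have hcases : ∀ a ∈ U, a = 1 ∨ a = c ∨ a = u ∨ a = c * u := by
    have hci : IsInv c := ⟨hcne, by rw [← pow_two]; exact hU.2 c hcU'⟩
    have hui : IsInv u := ⟨hu1, by rw [← pow_two]; exact hU.2 u hu⟩
    have hcomm : Commute c u := ea_comm hU hcU' hu
    obtain ⟨hk, hall⟩ := CoreKill.klein_pair hci hui (Ne.symm huc) hcomm
    have heq : zpowers c ⊔ zpowers u = U := Subgroup.eq_of_le_of_card_ge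
      (sup_le (zpowers_le.mpr hcU') (zpowers_le.mpr hu)) (by
        rw [(CoreKill.card_pair (orderOf_two hci) (orderOf_two hui) (Ne.symm huc) hcomm.eq).2, hU4])
    exact heq ▸ hall
  set T := (S : Subgroup G) ⊓ centralizer ({u} : Set G) with hTdef
  have hTU : ∀ a ∈ T, ∀ v ∈ U, a * v = v * a := by
    intro a ha v hv
    have h1 : Commute a c := hcS a ha.1
    have h2 : Commute a u := Subgroup.mem_centralizer_singleton_iff.mp ha.2
    rcases hcases v hv with rfl | rfl | rfl | rfl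
    exacts [(Commute.one_right a).eq, h1.eq, h2.eq, (h1.mul_right h2).eq]
  have hcu2 : c * (c * u) = u := by rw [← mul_assoc, ← pow_two, hU.2 c hcU', one_mul]
  -- `T` has index at most two in `S`
  have hmove : ∀ s ∈ (S : Subgroup G), s ∉ T → s * u * s⁻¹ = c * u := by
    intro s hs hsT
    rcases hcases _ (hUn' s hs u hu) with h1 | h1 | h1 | h1
    · exact absurd (conj_eq_one_iff.mp h1) hu1
    · refine absurd ?_ huc
      exact mul_left_cancel ((mul_inv_eq_iff_eq_mul.mp h1).trans (hcS s hs).symm)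
    · exact absurd ⟨hs, Subgroup.mem_centralizer_singleton_iff.mpr (mul_inv_eq_iff_eq_mul.mp h1)⟩ hsT
    · exact h1
  have hTS : T ≤ (S : Subgroup G) := inf_le_left
  have hrel : T.relIndex (S : Subgroup G) ≤ 2 := by
    by_cases hall : (S : Subgroup G) ≤ T
    · rw [Subgroup.relIndex_eq_one.mpr hall]
      omega
    obtain ⟨a, ha, haT⟩ := SetLike.not_le_iff_exists.mp hall
    refine le_of_eq (Subgroup.index_eq_two_iff.mpr ⟨⟨a, ha⟩, fun b => ?_⟩)
    simp only [Subgroup.mem_subgroupOf, Subgroup.coe_mul]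
    by_cases hb : (b : G) ∈ T
    · exact Or.inr ⟨hb, fun hba => haT ((Subgroup.mul_mem_cancel_left T hb).mp hba)⟩
    · refine Or.inl ⟨⟨mul_mem b.2 ha, Subgroup.mem_centralizer_singleton_iff.mpr (mul_inv_eq_iff_eq_mul.mp ?_)⟩, hb⟩
      calc (b : G) * a * u * ((b : G) * a)⁻¹ = b * (a * u * a⁻¹) * (b : G)⁻¹ := by group
        _ = ((b : G) * c) * u * (b : G)⁻¹ := by rw [hmove a ha haT]; group
        _ = c * ((b : G) * u * (b : G)⁻¹) := by rw [hcS b b.2]; group
        _ = u := by rw [hmove b b.2 hb, hcu2]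
  have hTE : Nat.card E ≤ 2 * Nat.card ↥(T ⊓ E) := by
    have h1 : T.relIndex E ≤ 2 := (Subgroup.relIndex_le_of_le_right hES
      (Subgroup.index_ne_zero_of_finite (H := T.subgroupOf (S : Subgroup G)))).trans hrel
    have h2 : Nat.card (T.subgroupOf E) = Nat.card ↥(T ⊓ E) := by
      rw [← Subgroup.inf_subgroupOf_right T E]
      exact Nat.card_congr (Subgroup.subgroupOfEquivOfLe inf_le_right).toEquiv
    calc Nat.card E = (T.subgroupOf E).index * Nat.card (T.subgroupOf E) := (Subgroup.index_mul_card _).symm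
      _ ≤ 2 * Nat.card ↥(T ⊓ E) := by rw [h2]; exact Nat.mul_le_mul_right _ h1
  -- the involution has a conjugate in `T`
  obtain ⟨g, hg⟩ : ∃ g : G, g * t * g⁻¹ ∈ T := by
    by_cases hall : (S : Subgroup G) ≤ T
    · obtain ⟨g, hg⟩ := exists_conj_invol S ht
      exact ⟨g, hall hg⟩
    by_contra hno
    push Not at hno
    have hrel2 : T.relIndex (S : Subgroup G) = 2 := by
      have h0 := Subgroup.index_ne_zero_of_finite (H := T.subgroupOf (S : Subgroup G))
      have h1 : T.relIndex (S : Subgroup G) ≠ 1 := fun e => hall (Subgroup.relIndex_eq_one.mp e)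
      unfold Subgroup.relIndex at *
      omega
    have hidx : T.index = 2 * (S : Subgroup G).index := by
      rw [← Subgroup.relIndex_mul_index hTS, hrel2]
    obtain ⟨K, hK, hK2⟩ := RankTwoSimple.exists_index_two T hidx
      (Nat.odd_iff.mpr (Nat.two_dvd_ne_zero.mp S.not_dvd_index)) (t := t)
      (by rw [← pow_two, ← ht, pow_orderOf_eq_one]) fun g hg => hno g⁻¹ (by rwa [inv_inv])
    refine RankTwoSimple.not_index_two ?_ hK hK2
    have := Subgroup.card_le_card_group E
    omega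
  obtain ⟨B, hB, hB8, hxB⟩ := exists_eight_of_four hU hU4 hE hE8 hTU hTE hg (by
    rw [← pow_two, conj_pow, ← ht, pow_orderOf_eq_one, mul_one, mul_inv_cancel])
  refine ⟨B.map (MulAut.conj g⁻¹).toMonoidHom, SolvSF.ea_of_comm ?_ ?_, ?_, g * t * g⁻¹, hxB, by simp [mul_assoc]⟩
  · rintro _ ⟨x, hx, rfl⟩ _ ⟨y, hy, rfl⟩
    rw [← map_mul, ea_comm hB hx hy, map_mul]
  · rintro _ ⟨x, hx, rfl⟩
    rw [← map_pow, hB.2 x hx, map_one]
  · rwa [Subgroup.card_map_of_injective (MulAut.conj g⁻¹).injective]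

/-- Two-rank at least three: theorem CK applies. -/
theorem Hyp.rank_three (h : Hyp S) (h3 : ¬ PRankLE 2 2 G) : gen S = ⊥ := by
  haveI := h.simple
  haveI := Fact.mk Nat.prime_two
  obtain ⟨E, hES, hE, hE8⟩ := CoreKill.exists_eight_in S h3
  have hD : CoreKill.Data S E (gen S) (centralizerPPrimeCore 2) :=
    ⟨hES, fun t ht => exists_eight_around h.noncomm h3 (orderOf_two ht), hE, hE8, h.odd, sylow_le_normalizer S,
      CoreKill.core_equi, fun v hv hvi => h.fix v hv (orderOf_two hvi)⟩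
  exact le_bot_iff.mp (CoreKill.oddCore_eq_bot_of_simple (G := G) h.noncomm ▸
    CoreKill.ck G S E _ _ hD)

/-- A four group of `S` generates `gen S` through its fixed points. -/
theorem Hyp.gen_eq (h : Hyp S) {U : Subgroup G} (hUS : U ≤ (S : Subgroup G)) (hU : IsElementaryAbelian 2 U)
    (hU4 : Nat.card U = 4) : gen S = CoreKill.Wθ (centralizerPPrimeCore 2) U := by
  haveI := Fact.mk Nat.prime_two
  haveI := hU.1
  refine le_antisymm ?_ (iSup_le fun b => le_gen (hUS b.2.1) (orderOf_eq_prime_of_ea hU b.2.1 b.2.2))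
  conv_lhs => rw [← CfsgLib.coprime_generated_by_centralizers (A := U) (K := gen S)
    (ea_not_cyclic hU (by omega)) (hUS.trans (sylow_le_normalizer S))
    (by rw [hU4, show (4 : ℕ) = 2 ^ 2 from rfl]; exact (Nat.coprime_two_left.mpr h.odd).pow_left 2)]
  refine iSup₂_le fun a ha => ?_
  rw [h.fix a (hUS ha.1) (orderOf_eq_prime_of_ea hU ha.1 ha.2)]
  exact CoreKill.le_Wθ ha.1 ha.2

/-- A conjugate inside `M = N(gen S)` of a four group of `M` is one by an element of `M`. -/
theorem Hyp.mem_of_four (h : Hyp S) {U : Subgroup G} (hU : IsElementaryAbelian 2 U) (hU4 : Nat.card U = 4)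
    (hUM : U ≤ normalizer (gen S : Set G)) {g : G} (hg : ∀ u ∈ U, g * u * g⁻¹ ∈ normalizer (gen S : Set G)) :
    g ∈ normalizer (gen S : Set G) := by
  haveI := Fact.mk Nat.prime_two
  set M := normalizer (gen S : Set G) with hM
  have hSM : (S : Subgroup G) ≤ M := sylow_le_normalizer S
  have key : ∀ V : Subgroup G, V ≤ M → IsElementaryAbelian 2 V → Nat.card V = 4 →
      gen S = CoreKill.Wθ (centralizerPPrimeCore 2) V := by
    intro V hVM hV hV4
    obtain ⟨m, hm⟩ := exists_conj_into (G := M) (S.subtype hSM) (A := V.subgroupOf M)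
      (IsPGroup.of_equiv (isPGroup_ea hV) (Subgroup.subgroupOfEquivOfLe hVM).symm)
    set V' := V.map (MulAut.conj (m : G)).toMonoidHom with hV'
    have hV'S : V' ≤ (S : Subgroup G) := by
      rintro _ ⟨v, hv, rfl⟩
      exact hm ⟨v, hVM hv⟩ hv
    have hV'e : IsElementaryAbelian 2 V' := by
      refine SolvSF.ea_of_comm ?_ ?_
      · rintro _ ⟨x, hx, rfl⟩ _ ⟨y, hy, rfl⟩
        rw [← map_mul, ea_comm hV hx hy, map_mul]
      · rintro _ ⟨x, hx, rfl⟩
        rw [← map_pow, hV.2 x hx, map_one]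
    have h1 := h.gen_eq hV'S hV'e (by rw [hV', Subgroup.card_map_of_injective (MulAut.conj (m : G)).injective, hV4])
    have h2 : gen S ≤ (CoreKill.Wθ (centralizerPPrimeCore 2) V).map (MulAut.conj (m : G)).toMonoidHom := by
      rw [h1]
      refine iSup_le fun b => ?_
      obtain ⟨v, hv, hvb⟩ := b.2.1
      have hv1 : v ≠ 1 := fun e => b.2.2 (by rw [← hvb, e, map_one])
      rw [← hvb]
      show centralizerPPrimeCore 2 ((m : G) * v * (m : G)⁻¹) ≤ _
      rw [CoreKill.core_equi]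
      exact Subgroup.map_mono (CoreKill.le_Wθ hv hv1)
    have h3 : (CoreKill.Wθ (centralizerPPrimeCore 2) V).map (MulAut.conj (m : G)).toMonoidHom ≤ gen S := by
      rw [CoreKill.Wθ, Subgroup.map_iSup]
      refine iSup_le fun b => ?_
      rw [← CoreKill.core_equi]
      exact le_gen (hV'S ⟨b, b.2.1, rfl⟩)
        (((MulAut.conj (m : G)).orderOf_eq (b : G)).trans (orderOf_eq_prime_of_ea hV b.2.1 b.2.2))
    refine Subgroup.map_injective (f := (MulAut.conj (m : G)).toMonoidHom) (MulAut.conj (m : G)).injective ?_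
    exact (Subgroup.mem_normalizer_iff_map_conj_eq.mp m.2).trans (le_antisymm h2 h3)
  refine Subgroup.mem_normalizer_iff_map_conj_eq.mpr (le_antisymm ?_ ?_)
  all_goals set U' := U.map (MulAut.conj g).toMonoidHom with hU'
  all_goals
    have hU'e : IsElementaryAbelian 2 U' := by
      refine SolvSF.ea_of_comm ?_ ?_
      · rintro _ ⟨x, hx, rfl⟩ _ ⟨y, hy, rfl⟩
        rw [← map_mul, ea_comm hU hx hy, map_mul]
      · rintro _ ⟨x, hx, rfl⟩
        rw [← map_pow, hU.2 x hx, map_one]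
  all_goals
    have hU'M : U' ≤ M := by
      rintro _ ⟨u, hu, rfl⟩
      exact hg u hu
  all_goals
    have e1 := key U hUM hU hU4
    have e2 := key U' hU'M hU'e (by rw [hU', Subgroup.card_map_of_injective (MulAut.conj g).injective, hU4])
  · conv_lhs => rw [e1, CoreKill.Wθ, Subgroup.map_iSup]
    refine iSup_le fun b => ?_
    show (centralizerPPrimeCore 2 (b : G)).map (MulAut.conj g).toMonoidHom ≤ _
    rw [← CoreKill.core_equi, e2]
    exact CoreKill.le_Wθ ⟨b, b.2.1, rfl⟩ fun e => b.2.2 (by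
      have := congrArg (fun w => g⁻¹ * w * g) e
      simpa [mul_assoc] using this)
  · conv_lhs => rw [e2]
    refine iSup_le fun b => ?_
    obtain ⟨u, hu, hub⟩ := b.2.1
    rw [← hub]
    show centralizerPPrimeCore 2 (g * u * g⁻¹) ≤ _
    rw [CoreKill.core_equi, e1]
    exact Subgroup.map_mono (CoreKill.le_Wθ hu fun e => b.2.2 (by rw [← hub, e, map_one]))

/-- A group with a normal 2-complement is its core times a Sylow 2-subgroup. -/
theorem exists_core_mul {X : Type u} [Group X] [Finite X] (D : Sylow 2 X) {N : Subgroup X} (hN : N.Normal)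
    (hodd : Odd (Nat.card N)) (hidx : ∃ k : ℕ, N.index = 2 ^ k) (c : X) :
    ∃ n ∈ pPrimeCore 2 X, ∃ d ∈ (D : Subgroup X), c = n * d := by
  haveI := Fact.mk Nat.prime_two
  haveI := hN
  obtain ⟨k, hk⟩ := hidx
  have hND : N ⊔ (D : Subgroup X) = ⊤ := by
    rw [← Subgroup.index_eq_one]
    exact Nat.eq_one_of_dvd_coprimes (((Nat.prime_two.coprime_iff_not_dvd).mpr D.not_dvd_index).pow_left k)
      (hk ▸ Subgroup.index_dvd_of_le le_sup_left) (Subgroup.index_dvd_of_le le_sup_right)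
  have hc : c ∈ N ⊔ (D : Subgroup X) := hND.symm ▸ Subgroup.mem_top c
  obtain ⟨n, hn, d, hd, he⟩ := Subgroup.mem_sup_of_normal_left.mp hc
  exact ⟨n, CfsgLib.le_pPrimeCore (Nat.coprime_two_right.mpr hodd) hn, d, hd, he.symm⟩

/-- A normal 2-complement in every involution centraliser and two involutions in `S` make `N(gen S)` strongly
embedded unless it is the whole group. -/
theorem Hyp.rank_two_complement (h : Hyp S)
    (hcomp : ∀ t : G, orderOf t = 2 → ∃ N : Subgroup (centralizer ({t} : Set G)), N.Normal ∧ Odd (Nat.card N) ∧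
      ∃ k : ℕ, N.index = 2 ^ k)
    (htwo : ∀ x ∈ (S : Subgroup G), orderOf x = 2 → ∃ U : Subgroup G, U ≤ (S : Subgroup G) ∧
      IsElementaryAbelian 2 U ∧ Nat.card U = 4 ∧ x ∈ U)
    (heven : Even (Nat.card G)) : gen S = ⊥ := by
  haveI := h.simple
  haveI := Fact.mk Nat.prime_two
  set M := normalizer (gen S : Set G) with hM
  have hSM : (S : Subgroup G) ≤ M := sylow_le_normalizer S
  have hgM : gen S ≤ M := Subgroup.le_normalizer
  haveI hgn : ((gen S).subgroupOf M).Normal := Subgroup.normal_in_normalizer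
  have hodd : Odd (Nat.card ((gen S).subgroupOf M)) := by
    rw [Nat.card_congr (Subgroup.subgroupOfEquivOfLe hgM).toEquiv]
    exact h.odd
  by_cases htop : M = ⊤
  · haveI : (gen S).Normal := Subgroup.normalizer_eq_top_iff.mp htop
    exact le_bot_iff.mp ((CfsgLib.le_oddCore h.odd).trans
      (CoreKill.oddCore_eq_bot_of_simple (G := G) h.noncomm).le)
  -- every involution of `M` lies in a four group of `M`
  have hfour : ∀ t ∈ M, orderOf t = 2 → ∃ U : Subgroup G, U ≤ M ∧ IsElementaryAbelian 2 U ∧ Nat.card U = 4 ∧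
      t ∈ U ∧ centralizerPPrimeCore 2 t ≤ M := by
    intro t htM ht
    obtain ⟨m, hm⟩ := exists_conj_invol (G := M) (S.subtype hSM) (t := ⟨t, htM⟩)
      ((Subgroup.orderOf_mk t htM).trans ht)
    have hxS : (m : G) * t * (m : G)⁻¹ ∈ (S : Subgroup G) := hm
    have hx : orderOf ((m : G) * t * (m : G)⁻¹) = 2 := ((MulAut.conj (m : G)).orderOf_eq t).trans ht
    obtain ⟨U, hUS, hU, hU4, hxU⟩ := htwo _ hxS hx
    refine ⟨U.map (MulAut.conj (m : G)⁻¹).toMonoidHom, ?_, SolvSF.ea_of_comm ?_ ?_, ?_,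
      ⟨_, hxU, by simp [mul_assoc]⟩, ?_⟩
    · rintro _ ⟨u, hu, rfl⟩
      exact mul_mem (mul_mem (inv_mem m.2) (hSM (hUS hu))) (inv_mem (inv_mem m.2))
    · rintro _ ⟨x, hx, rfl⟩ _ ⟨y, hy, rfl⟩
      rw [← map_mul, ea_comm hU hx hy, map_mul]
    · rintro _ ⟨x, hx, rfl⟩
      rw [← map_pow, hU.2 x hx, map_one]
    · rw [Subgroup.card_map_of_injective (MulAut.conj (m : G)⁻¹).injective, hU4]
    · intro w hw
      have h1 : (m : G) * w * (m : G)⁻¹ ∈ M := hgM (le_gen hxS hx (by
        rw [CoreKill.core_equi]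
        exact ⟨w, hw, rfl⟩))
      have h2 := mul_mem (mul_mem (inv_mem m.2) h1) m.2
      rwa [show (m : G)⁻¹ * ((m : G) * w * (m : G)⁻¹) * (m : G) = w by group] at h2
  -- centralisers of involutions
  have hcent : ∀ t ∈ M, orderOf t = 2 → centralizer ({t} : Set G) ≤ M := by
    intro t htM ht
    obtain ⟨U, hUM, hU, hU4, htU, hθ⟩ := hfour t htM ht
    set C := centralizer ({t} : Set G) with hC
    have hUC : U ≤ C := fun u hu => Subgroup.mem_centralizer_singleton_iff.mpr (ea_comm hU hu htU)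
    obtain ⟨D, hD⟩ := (IsPGroup.of_equiv (isPGroup_ea hU) (Subgroup.subgroupOfEquivOfLe hUC).symm).exists_le_sylow
    have hTM : (D : Subgroup C).map C.subtype ≤ M := by
      set T := (D : Subgroup C).map C.subtype with hT
      have hTp : IsPGroup 2 T := D.isPGroup'.map _
      haveI := hTp.isNilpotent
      by_contra hnle
      have hlt : M.subgroupOf T < ⊤ := lt_top_iff_ne_top.mpr fun e => hnle (Subgroup.subgroupOf_eq_top.mp e)
      obtain ⟨y, hyN, hyD⟩ := SetLike.exists_of_lt (Group.normalizerCondition_of_isNilpotent _ hlt)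
      have hUT : ∀ u ∈ U, u ∈ T := fun u hu => ⟨⟨u, hUC hu⟩, hD hu, rfl⟩
      refine hyD (h.mem_of_four hU hU4 hUM fun u hu => ?_)
      have := (Subgroup.mem_normalizer_iff.mp hyN ⟨u, hUT u hu⟩).mp (hUM hu)
      simpa [Subgroup.mem_subgroupOf] using this
    obtain ⟨N, hNn, hNodd, hk⟩ := hcomp t ht
    intro c hc
    obtain ⟨n, hn, d, hd, he⟩ := exists_core_mul D hNn hNodd hk (⟨c, hc⟩ : C)
    rw [show c = (n : G) * (d : G) from congrArg Subtype.val he]
    exact mul_mem (hθ ⟨n, hn, rfl⟩) (hTM ⟨d, hd, rfl⟩)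
  have heM : Even (Nat.card M) := by
    have h1 : 2 ∣ Nat.card (S : Subgroup G) := by
      have h2 := S.pow_dvd_card_of_pow_dvd_card (n := 1) (by rw [pow_one]; exact even_iff_two_dvd.mp heven)
      simpa using h2
    exact even_iff_two_dvd.mpr (h1.trans (Subgroup.card_dvd_of_le hSM))
  have hse : IsStronglyEmbedded M := (Cfsg.Agent.S0223.result M htop heM).mpr ⟨hcent, fun t htM s hsM ht hs hconj => by
    obtain ⟨g, hg⟩ := isConj_iff.mp hconj
    obtain ⟨U, hUM, hU, hU4, htU, -⟩ := hfour t htM ht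
    refine ⟨g, h.mem_of_four hU hU4 hUM fun u hu => hcent s hsM hs ?_, hg⟩
    rw [Subgroup.mem_centralizer_singleton_iff, ← hg]
    show MulAut.conj g u * MulAut.conj g t = MulAut.conj g t * MulAut.conj g u
    rw [← map_mul, ea_comm hU hu htU, map_mul]⟩
  refine le_bot_iff.mp ?_
  rw [← CoreKill.oddCore_eq_bot_of_simple (G := G) h.noncomm]
  refine le_trans ?_ (Cfsg.Agent.S1221.result M hse)
  calc gen S = ((gen S).subgroupOf M).map M.subtype := (Subgroup.map_subgroupOf_eq_of_le hgM).symm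
    _ ≤ _ := Subgroup.map_mono (CfsgLib.le_oddCore hodd)

end CfsgLib.CoreGen
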