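import Cfsg.Agent.Lib.CoreGen.Basic
import Cfsg.Agent.Lib.WeakEmbCore.Connected
import Cfsg.Agent.Lib.RankTwoModel.CMax.Model
import Cfsg.Agent.Lib.RankTwoModel.Rows.Main
import Cfsg.Agent.Lib.U34Char.Five.Table
import Cfsg.Agent.Lib.U34Recog.Main
import Cfsg.Agent.Lib.SuzukiTwo.UnitarySixty
import Cfsg.Agent.S0514
import Cfsg.Agent.S0516

/-!
Cores that generate an odd subgroup with the right fixed points die: the rank two cases and the theorem.

Blueprint: `blueprint/bender/S1290.md`.
-/

set_option autoImplicit false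
set_option linter.unusedSectionVars false
set_option linter.style.haveILetI false

universe u

namespace CfsgLib.CoreGen

open Cfsg Subgroup CfsgLib.Signalizer CfsgLib.RankTwoModel
open CfsgLib.Bender.Assembly (orderOf_two isInv_of_orderOf)

variable {G : Type u} [Group G] [Finite G] {S : Sylow 2 G}

/-- Semidihedral or wreathed Sylow subgroup: the core is constant on the involutions. -/
theorem Hyp.qd_wreathed (main : Rows.Main.{u}) (h : Hyp S)
    (hS : IsQuasiDihedral (S : Subgroup G) ∨ IsWreathed (S : Subgroup G)) {t : G} (ht : orderOf t = 2) :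
    centralizerPPrimeCore 2 t = ⊥ := by
  haveI := h.simple
  haveI := Fact.mk Nat.prime_two
  have hq : QW G := ⟨S, hS⟩
  have hm : Model G := reduction main G h.simple hq
  have hcent : ∀ a : G, orderOf a = 2 → ∀ b : G, Commute b a → ∀ w ∈ centralizerPPrimeCore 2 a, b * w = w * b :=
    fun a ha b hba w hw => Model.odd_central h.simple hq hm ha (CharTwoEarly.odd_core a) (CharTwoEarly.core_le a)
      (fun c hc r hr => CharTwoEarly.conj_mem_core (Subgroup.mem_centralizer_singleton_iff.mp hc) hr)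
      b (Subgroup.mem_centralizer_singleton_iff.mpr hba.eq) w hw
  have inS : ∀ a b : G, a ∈ S → b ∈ S → orderOf a = 2 → orderOf b = 2 → Commute a b →
      centralizerPPrimeCore 2 a ≤ centralizerPPrimeCore 2 b := fun a b haS hbS ha hb hab w hw => by
    rw [← h.fix b hbS hb]
    exact ⟨le_gen haS ha hw, Subgroup.mem_centralizer_singleton_iff.mpr (hcent a ha b hab.symm w hw).symm⟩
  have edge : ∀ a b : G, WeakEmbCore.Adj a b → centralizerPPrimeCore 2 a = centralizerPPrimeCore 2 b := by
    rintro a b ⟨ha, hb, hab⟩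
    have hU : IsPGroup 2 ↥(zpowers a ⊔ zpowers b) := by
      refine isPGroup_ea (TwoLocalSignalizer.ea_sup
        (CoreKill.ea_zpowers (by rw [← pow_two, ← ha, pow_orderOf_eq_one]))
        (CoreKill.ea_zpowers (by rw [← pow_two, ← hb, pow_orderOf_eq_one])) fun x hx y hy => ?_)
      obtain ⟨i, rfl⟩ := mem_zpowers_iff.mp hx
      obtain ⟨j, rfl⟩ := mem_zpowers_iff.mp hy
      exact (Commute.zpow_zpow hab i j).eq
    obtain ⟨g, hg⟩ := exists_conj_into S hU
    have ha' := hg a ((le_sup_left : zpowers a ≤ zpowers a ⊔ zpowers b) (mem_zpowers a))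
    have hb' := hg b ((le_sup_right : zpowers b ≤ zpowers a ⊔ zpowers b) (mem_zpowers b))
    have hoa := ((MulAut.conj g).orderOf_eq a).trans ha
    have hob := ((MulAut.conj g).orderOf_eq b).trans hb
    have hc : Commute (g * a * g⁻¹) (g * b * g⁻¹) := hab.map (MulAut.conj g).toMonoidHom
    have he := le_antisymm (inS _ _ ha' hb' hoa hob hc) (inS _ _ hb' ha' hob hoa hc.symm)
    rw [CoreKill.core_equi, CoreKill.core_equi] at he
    exact Subgroup.map_injective (f := (MulAut.conj g).toMonoidHom) (MulAut.conj g).injective he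
  obtain ⟨r, s, hr, hs, hrs⟩ := WeakEmbCore.exists_noncomm_invol hS
  have hall : ∀ a : G, orderOf a = 2 → centralizerPPrimeCore 2 t = centralizerPPrimeCore 2 a := fun a ha => by
    have hc := WeakEmbCore.connected S r.2 ((Subgroup.orderOf_coe r).trans hr) s.2
      ((Subgroup.orderOf_coe s).trans hs) (fun e => hrs (Subtype.ext e)) ht ha
    clear ha
    induction hc with
    | refl => rfl
    | @tail x y _ hxy ih => exact ih.trans (edge x y hxy)
  haveI hn : (centralizerPPrimeCore 2 t).Normal := ⟨fun w hw g => by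
    have h1 : g * w * g⁻¹ ∈ centralizerPPrimeCore 2 (g * t * g⁻¹) := by
      rw [CoreKill.core_equi]
      exact ⟨w, hw, rfl⟩
    have h2 := hall (g * t * g⁻¹) (((MulAut.conj g).orderOf_eq t).trans ht)
    exact h2 ▸ h1⟩
  exact le_bot_iff.mp ((CfsgLib.le_oddCore (N := centralizerPPrimeCore 2 t) (CharTwoEarly.odd_core t)).trans
    (CoreKill.oddCore_eq_bot_of_simple (G := G) h.noncomm).le)

/-- Dihedral Sylow subgroup: `N(gen S)` would be strongly embedded. -/
theorem Hyp.dihedral_sylow (h : Hyp S) {n : ℕ} (hn : 2 ≤ n) (e : (S : Subgroup G) ≃* DihedralGroup n) : gen S = ⊥ := by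
  haveI := h.simple
  haveI := Fact.mk Nat.prime_two
  haveI : NeZero n := ⟨by omega⟩
  have hcard : Nat.card (S : Subgroup G) = 2 * n := by
    rw [Nat.card_congr e.toEquiv, DihedralGroup.nat_card]
  refine h.rank_two_complement (fun t ht => Cfsg.Agent.S0514.result S n hn ⟨e⟩ t ht) (fun x hxS hx => ?_) ?_
  · obtain ⟨a, ha, haS, hax, hcomm⟩ : ∃ a : G, orderOf a = 2 ∧ a ∈ S ∧ a ≠ x ∧ Commute a x := by
      obtain ⟨z, hzS, hz, hzc⟩ := Comp.exists_central_in_normal (p := 2) S.isPGroup' (le_refl (S : Subgroup G))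
        Subgroup.le_normalizer fun hb => by rw [hb, Subgroup.card_bot] at hcard; omega
      by_cases hzx : z = x
      · -- a reflection
        obtain ⟨i, hi⟩ : ∃ i : ZMod n, ((e.symm (DihedralGroup.sr i) : (S : Subgroup G)) : G) ≠ x := by
          by_contra hno
          push Not at hno
          have h01 : (e.symm (DihedralGroup.sr (0 : ZMod n))) = e.symm (DihedralGroup.sr 1) :=
            Subtype.ext ((hno 0).trans (hno 1).symm)
          haveI : Fact (1 < n) := ⟨by omega⟩
          exact zero_ne_one (DihedralGroup.sr.inj (e.symm.injective h01))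
        refine ⟨_, ?_, (e.symm (DihedralGroup.sr i)).2, hi, ?_⟩
        · rw [Subgroup.orderOf_coe, e.symm.orderOf_eq, DihedralGroup.orderOf_sr]
        · exact hzx ▸ (hzc _ (e.symm (DihedralGroup.sr i)).2)
      · exact ⟨z, hz, hzS, hzx, (hzc x hxS).symm⟩
    obtain ⟨hA, hA4⟩ := CoreKill.card_pair ha hx hax hcomm.eq
    exact ⟨_, sup_le (zpowers_le.mpr haS) (zpowers_le.mpr hxS), hA, hA4,
      (le_sup_right : zpowers x ≤ zpowers a ⊔ zpowers x) (mem_zpowers x)⟩
  · exact even_iff_two_dvd.mpr ((Dvd.intro n hcard.symm).trans (Subgroup.card_subgroup_dvd_card _))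

/-- Sylow subgroup of type `U₃(4)`. -/
theorem Hyp.unitary (h : Hyp S) {F : Type} [Field F] [Fintype F] (hF : Fintype.card F = 16)
    (P : Sylow 2 (Cfsg.PSU 3 F 4)) (e : (S : Subgroup G) ≃* (P : Subgroup (Cfsg.PSU 3 F 4))) {t : G}
    (ht : orderOf t = 2) : centralizerPPrimeCore 2 t = ⊥ := by
  letI : Fintype G := Fintype.ofFinite G
  have hc : U34Char.Conf S := ⟨h.simple, U34Recog.sixty_of_equiv e (SuzukiTwo.sixty hF P)⟩
  obtain ⟨f, -, hf⟩ := U34Char.Conf.exists_five hc
  refine eq_bot_of_sylow (fun x hx hx2 => hf x (U34Char.Conf.mem_four_of_sq hc hx ?_) ?_) ht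
  · rw [← pow_two, ← hx2, pow_orderOf_eq_one]
  · intro e1
    rw [e1, orderOf_one] at hx2
    omega

/-- **The theorem.** -/
theorem Hyp.core_eq_bot (main : Rows.Main.{u}) (h : Hyp S) {t : G} (ht : orderOf t = 2) :
    centralizerPPrimeCore 2 t = ⊥ := by
  haveI := h.simple
  haveI := Fact.mk Nat.prime_two
  by_cases h2 : PRankLE 2 2 G
  · letI : Fintype (GaloisField 2 4) := Fintype.ofFinite _
    have h16 : Fintype.card (GaloisField 2 4) = 16 := by
      rw [← Nat.card_eq_fintype_card, GaloisField.card 2 4 (by norm_num)]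
      norm_num
    obtain ⟨P⟩ : Nonempty (Sylow 2 (Cfsg.PSU 3 (GaloisField 2 4) 4)) := inferInstance
    rcases Cfsg.Agent.S0516.result h.noncomm h2 S h16 P with ⟨n, hn, ⟨e⟩⟩ | hS | hS | e
    · exact eq_bot_of_gen (h.dihedral_sylow hn e) ht
    · exact h.qd_wreathed main (Or.inl hS) ht
    · exact h.qd_wreathed main (Or.inr hS) ht
    · exact h.unitary h16 P e.some ht
  · exact eq_bot_of_gen (h.rank_three h2) ht

/-- S1290 over the classification of the semidihedral and wreathed configurations. -/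
theorem s1290 (main : Rows.Main.{u}) [IsSimpleGroup G] (hna : ¬ IsMulCommutative G) (S : Sylow 2 G)
    (hodd : Odd (Nat.card ↥(⨆ x : {x : G // x ∈ S ∧ orderOf x = 2}, centralizerPPrimeCore 2 (x : G))))
    (hfix : ∀ x : G, x ∈ S → orderOf x = 2 →
      (⨆ y : {y : G // y ∈ S ∧ orderOf y = 2}, centralizerPPrimeCore 2 (y : G)) ⊓ centralizer {x} =
        centralizerPPrimeCore 2 x)
    (t : G) (ht : orderOf t = 2) : centralizerPPrimeCore 2 t = ⊥ :=
  Hyp.core_eq_bot (S := S) main ⟨inferInstance, hna, hodd, hfix⟩ ht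

end CfsgLib.CoreGen
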